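import Groth.Prelude.Def_SchLoc
import Mathlib.AlgebraicGeometry.Morphisms.Immersion
import Mathlib.AlgebraicGeometry.Morphisms.Separated
import Mathlib.AlgebraicGeometry.Morphisms.Immersion

universe u

open CategoryTheory AlgebraicGeometry

namespace Groth.Agent.SchLocLib

variable {X Y : Scheme.{u}} (f : X ⟶ Y)

/-- A local immersion at a point is the same thing as an immersion on a neighbourhood. -/
theorem isLocalImmersionAt_iff (x : X) :
    SchLoc.IsLocalImmersionAt f x ↔ ∃ U : X.Opens, x ∈ U ∧ IsImmersion (U.ι ≫ f) := by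
  constructor
  · rintro ⟨U, V, h, hx, hc⟩
    refine ⟨U, hx, ?_⟩
    rw [← Scheme.Hom.resLE_comp_ι f h]
    infer_instance
  · rintro ⟨U, hx, hi⟩
    have h : U ≤ f ⁻¹ᵁ (U.ι ≫ f).coborderRange := fun z hz =>
      subset_coborder ⟨⟨z, hz⟩, rfl⟩
    refine ⟨U, (U.ι ≫ f).coborderRange, h, hx, ?_⟩
    have : f.resLE _ U h = (U.ι ≫ f).liftCoborder := by
      rw [← cancel_mono (Scheme.Opens.ι _), Scheme.Hom.resLE_comp_ι, Scheme.Hom.liftCoborder_ι]
    rw [this]
    infer_instance

/-- A local isomorphism is a local immersion. -/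
theorem isLocalImmersion_of_isLocalIso (hf : SchLoc.IsLocalIso f) : SchLoc.IsLocalImmersion f := by
  intro x
  obtain ⟨U, hx, hU⟩ := hf x
  exact (isLocalImmersionAt_iff f x).mpr ⟨U, hx, inferInstance⟩

/-- If every point of `X` has an open `V` in `Y` over which `f` is a closed immersion, then `f` is
an immersion. -/
theorem isImmersion_of_forall_exists_restrict
    (H : ∀ x : X, ∃ V : Y.Opens, f x ∈ V ∧ IsClosedImmersion (f ∣_ V)) : IsImmersion f := by
  choose V hxV hV using H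
  let W : Y.Opens := ⨆ x, V x
  have hW : f ⁻¹ᵁ W = ⊤ := top_le_iff.mp fun x _ => le_iSup V x (hxV x)
  have hiW : IsImmersion (f ∣_ W) := by
    refine IsZariskiLocalAtTarget.of_iSup_eq_top (P := @IsImmersion) (f := f ∣_ W)
      (fun x => W.ι ⁻¹ᵁ V x) ?_ fun x => ?_
    · rw [← Scheme.Hom.preimage_iSup]
      exact W.ι_preimage_self
    · have := hV x
      haveI : MorphismProperty.RespectsIso @IsImmersion :=
        MorphismProperty.IsStableUnderBaseChange.respectsIso
      refine ((MorphismProperty.arrow_mk_iso_iff (P := @IsImmersion)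
        (morphismRestrictRestrict f W (W.ι ⁻¹ᵁ V x))).mpr ?_)
      have e : W.ι ''ᵁ (W.ι ⁻¹ᵁ V x) = V x := by
        rw [Scheme.Hom.image_preimage_eq_opensRange_inf, Scheme.Opens.opensRange_ι]
        exact inf_eq_right.mpr (le_iSup V x)
      rw [e]
      infer_instance
  have : IsIso ((f ⁻¹ᵁ W).ι) := by rw [hW]; exact (Scheme.topIso X).isIso_hom
  have e : f = inv ((f ⁻¹ᵁ W).ι) ≫ (f ∣_ W) ≫ W.ι := by
    rw [morphismRestrict_ι, IsIso.inv_hom_id_assoc]
  rw [e]
  infer_instance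

/-- For `U ⟶ V` a closed immersion, `f` separated and `f ⁻¹ᵁ V` preconnected, `U` is all of
`f ⁻¹ᵁ V`. -/
theorem isClosedImmersion_restrict_of_isSeparated [IrreducibleSpace X] [IsSeparated f]
    {U : X.Opens} {V : Y.Opens} (h : U ≤ f ⁻¹ᵁ V) (hU : (U : Set X).Nonempty)
    (hc : IsClosedImmersion (f.resLE V U h)) : IsClosedImmersion (f ∣_ V) := by
  have e : X.homOfLE h ≫ f ∣_ V = f.resLE V U h := rfl
  have hc' : IsClosedImmersion (X.homOfLE h) := by
    have : IsClosedImmersion (X.homOfLE h ≫ f ∣_ V) := e ▸ hc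
    exact IsClosedImmersion.of_comp _ (f ∣_ V)
  have hUeq : U = f ⁻¹ᵁ V := by
    refine le_antisymm h fun z hz => ?_
    have hcl : IsClosed (Set.range (X.homOfLE h)) :=
      (X.homOfLE h).isClosedEmbedding.isClosed_range
    have hd : Dense (Set.range (X.homOfLE h)) := by
      have hUd : Dense (U : Set X) := U.2.dense hU
      rw [dense_iff_inter_open]
      intro O hO hne
      obtain ⟨O', hO', rfl⟩ := isOpen_induced_iff.mp hO
      obtain ⟨w, hw⟩ := hne
      obtain ⟨v, hv, hvU⟩ := hUd.inter_open_nonempty (O' ∩ f ⁻¹ᵁ V)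
        (hO'.inter (f ⁻¹ᵁ V).2) ⟨w.1, hw, w.2⟩
      exact ⟨⟨v, hv.2⟩, hv.1, ⟨⟨v, hvU⟩, Subtype.ext (by simp)⟩⟩
    have := hd.closure_eq ▸ hcl.closure_eq
    obtain ⟨w, hw⟩ := (this ▸ Set.mem_univ (⟨z, hz⟩ : f ⁻¹ᵁ V) :
      (⟨z, hz⟩ : f ⁻¹ᵁ V) ∈ Set.range (X.homOfLE h))
    have : (w.1 : X) = z := by
      rw [← show (X.homOfLE h w).1 = w.1 from Scheme.homOfLE_apply h w]
      exact congrArg Subtype.val hw
    exact this ▸ w.2
  subst hUeq
  have : f ∣_ V = f.resLE V _ h := by simp [Scheme.Hom.resLE]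
  rw [this]
  exact hc

theorem isImmersion_of_isLocalImmersion [IrreducibleSpace X] (hf : SchLoc.IsLocalImmersion f)
    [IsSeparated f] : IsImmersion f := by
  refine isImmersion_of_forall_exists_restrict f fun x => ?_
  obtain ⟨U, V, h, hx, hc⟩ := hf x
  exact ⟨V, h hx, isClosedImmersion_restrict_of_isSeparated f h ⟨x, hx⟩ hc⟩

end Groth.Agent.SchLocLib
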